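import Groth.Agent.Assoc.Kernel
import Groth.Agent.AlgSpLib.GrpUnitDiag
import Groth.Agent.UnramPt.Basic
import Groth.Agent.LimDesc.DescendQF
import Groth.Agent.GrpLoc.BaseChange
import Mathlib.RingTheory.Unramified.Finite
import Mathlib.LinearAlgebra.TensorProduct.Basis
import Mathlib.AlgebraicGeometry.Morphisms.FormallyUnramified

/-!
# Open diagonals over a field; kernels and local properties of homomorphisms
-/

universe u

open CategoryTheory CategoryTheory.Limits MonoidalCategory CartesianMonoidalCategory MonObj AlgebraicGeometry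
open scoped TensorProduct

set_option backward.isDefEq.respectTransparency false

namespace Groth.Agent.UnitUnram

/-- An algebra over a field with a separability idempotent is finite. -/
theorem finite_of_separability {k R : Type u} [Field k] [CommRing R] [Algebra k R] (t : R ⊗[k] R)
    (ht : ∀ r : R, (r ⊗ₜ[k] (1 : R)) * t = ((1 : R) ⊗ₜ[k] r) * t)
    (h1 : Algebra.TensorProduct.lmul' k t = 1) : Module.Finite k R := by
  classical
  let b := Module.Basis.ofVectorSpace k R
  obtain ⟨c, hc⟩ := TensorProduct.eq_repr_basis_left b t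
  let Y : Submodule k R := Submodule.span k (c.support.image c)
  have hY : ∀ r : R, ∀ j, r * c j ∈ Y := by
    intro r j
    let L : R ⊗[k] R →ₗ[k] R := (TensorProduct.lid k R).toLinearMap ∘ₗ LinearMap.rTensor R (b.coord j)
    have hL : ∀ x y : R, L (x ⊗ₜ y) = b.coord j x • y := fun x y => by simp [L]
    have e := congrArg L (ht r)
    rw [← hc, Finsupp.sum, Finset.mul_sum, Finset.mul_sum, map_sum, map_sum] at e
    simp only [_root_.one_mul, Algebra.TensorProduct.tmul_mul_tmul, one_mul, hL, Module.Basis.coord_apply,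
      Module.Basis.repr_self, Finsupp.single_apply, ite_smul, one_smul, zero_smul] at e
    rw [Finset.sum_ite_eq'] at e
    by_cases hj : j ∈ c.support
    · rw [if_pos hj] at e
      rw [← e]
      exact Y.sum_mem fun i hi => Y.smul_mem _ (Submodule.subset_span
        (Finset.mem_coe.2 (Finset.mem_image_of_mem _ hi)))
    · rw [Finsupp.notMem_support_iff.1 hj, mul_zero]
      exact Y.zero_mem
  refine ⟨⟨c.support.biUnion fun j => (c.support.image c).image (b j * ·), ?_⟩⟩
  refine eq_top_iff.2 fun r _ => ?_
  have e : r = ∑ j ∈ c.support, b j * (r * c j) := by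
    conv_lhs => rw [← _root_.mul_one r, ← h1, ← hc, Finsupp.sum, map_sum, Finset.mul_sum]
    refine Finset.sum_congr rfl fun j _ => ?_
    rw [Algebra.TensorProduct.lmul'_apply_tmul, mul_left_comm]
  rw [e]
  refine Submodule.sum_mem _ fun j hj => ?_
  have := Submodule.mem_map_of_mem (f := LinearMap.mulLeft k (b j)) (hY r j)
  rw [Submodule.map_span] at this
  refine Submodule.span_mono ?_ this
  rintro _ ⟨y, hy, rfl⟩
  exact Finset.mem_coe.2 (Finset.mem_biUnion.2 ⟨j, hj, Finset.mem_image_of_mem _ hy⟩)

/-- A scheme over a field whose diagonal is an open immersion is locally of finite type. -/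
theorem locallyOfFiniteType_of_diagonal {k : Type u} [Field k] {X : Scheme.{u}}
    (f : X ⟶ Spec (CommRingCat.of k)) [IsOpenImmersion (pullback.diagonal f)] :
    LocallyOfFiniteType f := by
  wlog hX : ∃ R, X = Spec R generalizing X
  · rw [IsZariskiLocalAtSource.iff_of_openCover (P := @LocallyOfFiniteType) X.affineCover]
    intro i
    have inst : IsOpenImmersion (pullback.diagonal (X.affineCover.f i ≫ f)) :=
      MorphismProperty.comp_mem (.diagonal @IsOpenImmersion) _ _
        (inferInstanceAs (IsOpenImmersion _)) ‹_›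
    exact this (_ ≫ _) ⟨_, rfl⟩
  obtain ⟨R, rfl⟩ := hX
  obtain ⟨φ, rfl : Spec.map φ = f⟩ := Spec.homEquiv.symm.surjective f
  rw [HasRingHomProperty.Spec_iff (P := @LocallyOfFiniteType)]
  algebraize [φ.hom]
  let F := (Algebra.TensorProduct.lmul' k (S := R)).toRingHom
  have hF : Function.Surjective F := fun x ↦ ⟨.mk _ _ _ x 1, by simp [F]⟩
  have : IsOpenImmersion (Spec.map (CommRingCat.ofHom F)) := by
    rwa [← MorphismProperty.cancel_right_of_respectsIso (P := @IsOpenImmersion) _
      (pullbackSpecIso k R R).inv, ← AlgebraicGeometry.diagonal_SpecMap k R]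
  obtain ⟨e, he, he'⟩ := (isOpenImmersion_SpecMap_iff_of_surjective _ hF).mp this
  have he0 : F e = 0 := RingHom.mem_ker.1 (he'.ge (Ideal.mem_span_singleton_self e))
  have : Module.Finite k R := finite_of_separability (1 - e) (fun r => by
    have hm : (r ⊗ₜ[k] (1 : R)) - (1 : R) ⊗ₜ[k] r ∈ RingHom.ker F := by simp [F]
    obtain ⟨a, ha⟩ := Ideal.mem_span_singleton.1 (he'.le hm)
    rw [← sub_eq_zero, ← sub_mul, ha, mul_comm e, _root_.mul_assoc, mul_sub, _root_.mul_one, he.eq, sub_self, mul_zero])
    (by rw [map_sub, map_one]; exact (congrArg (1 - ·) he0).trans (sub_zero _))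
  exact RingHom.finiteType_algebraMap.2 inferInstance

variable {S : Scheme.{u}}

/-- The unit section is an open immersion iff the diagonal is. -/
theorem isOpenImmersion_unit_iff (G : Over S) [GrpObj G] :
    IsOpenImmersion η[G].left ↔ IsOpenImmersion (pullback.diagonal G.hom) := by
  have e : (lift (𝟙 G) (𝟙 G)).left = pullback.diagonal G.hom := Over.lift_left _ _
  refine ⟨fun h => ?_, fun h => ?_⟩
  · have hp := (Groth.Agent.AlgSpLib.isPullback_diag_unit G).map (Over.forget S)
    rw [← e]
    exact MorphismProperty.of_isPullback (P := @IsOpenImmersion) hp h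
  · have hp := (Groth.Agent.AlgSpLib.isPullback_unit_diag G).map (Over.forget S)
    exact MorphismProperty.of_isPullback (P := @IsOpenImmersion) hp (by
      show IsOpenImmersion (lift (𝟙 G) (𝟙 G)).left
      rw [e]; exact h)

variable {G H K : Over S} [GrpObj G] [GrpObj H] [GrpObj K] (u : G ⟶ H) [IsMonHom u]
  (i : K ⟶ G) [IsMonHom i]

omit [GrpObj G] [IsMonHom u] [IsMonHom i] [GrpObj K] in
/-- The kernel is a base change of the homomorphism. -/
theorem kernel_hom (P : MorphismProperty Scheme.{u}) [P.IsStableUnderBaseChange]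
    (hK : AlgGrp.IsKernel i u) (h : P u.left) : P K.hom := by
  have e : K.hom = (toUnit K).left := rfl
  rw [e]
  exact MorphismProperty.of_isPullback (hK.map (Over.forget S)) h

/-- The square exhibiting `G ×_H G` as `G × K`. -/
theorem isPullback_shear (hK : AlgGrp.IsKernel i u) :
    IsPullback ((G ◁ i) ≫ μ[G]).left (fst G K).left u.left u.left :=
  ((Assoc.kernel_isPullback i u hK).map (Over.forget S)).flip

omit [GrpObj H] [IsMonHom u] in
theorem shear_section : ((lift (𝟙 G) (1 : G ⟶ K)) ≫ (G ◁ i) ≫ μ[G]).left = 𝟙 G.left := by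
  have h : (lift (𝟙 G) (1 : G ⟶ K)) ≫ (G ◁ i) ≫ μ[G] = 𝟙 G := by
    rw [lift_whiskerLeft_assoc, MonObj.one_comp, ← Hom.mul_def, _root_.mul_one]
  rw [h]; rfl

theorem lqf_iff_kernel [LocallyOfFiniteType u.left] (hK : AlgGrp.IsKernel i u) :
    LocallyQuasiFinite u.left ↔ LocallyQuasiFinite K.hom := by
  refine ⟨fun h => kernel_hom u i @LocallyQuasiFinite hK h,
    fun h => LimDesc.locallyQuasiFinite_of_forall_quasiFiniteAt _ fun x => ?_⟩
  have hf : LocallyQuasiFinite (fst G K).left := MorphismProperty.pullback_fst G.hom K.hom h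
  let z := (lift (𝟙 G) (1 : G ⟶ K)).left x
  have h1 := LimDesc.quasiFiniteAt_of_baseChange (isPullback_shear u i hK) (x' := z) ((fst G K).left.quasiFiniteAt z)
  rwa [← Scheme.Hom.comp_apply, ← Over.comp_left, shear_section i] at h1

theorem formallyUnramified_iff_kernel [LocallyOfFiniteType u.left] (hK : AlgGrp.IsKernel i u) :
    FormallyUnramified u.left ↔ FormallyUnramified K.hom := by
  refine ⟨fun h => kernel_hom u i @FormallyUnramified hK h, fun h => ?_⟩
  have hf : FormallyUnramified (fst G K).left := MorphismProperty.pullback_fst G.hom K.hom h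
  let sq := isPullback_shear u i hK
  have key : ∀ x, ∃ U : G.left.Opens, x ∈ U ∧ FormallyUnramified (U.ι ≫ u.left) := fun x => by
    obtain ⟨U, hU, hUu⟩ := UnramPt.exists_nhd_of_baseChange u.left u.left
      (sq.isoPullback.hom ((lift (𝟙 G) (1 : G ⟶ K)).left x)) ⊤ trivial (by
        refine MorphismProperty.comp_mem @FormallyUnramified _ _ inferInstance ?_
        rw [← sq.isoPullback_inv_snd]
        exact MorphismProperty.comp_mem @FormallyUnramified _ _ inferInstance hf)
    refine ⟨U, ?_, hUu⟩
    rwa [← Scheme.Hom.comp_apply, sq.isoPullback_hom_fst, ← Scheme.Hom.comp_apply, ← Over.comp_left,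
      shear_section i] at hU
  choose U hxU hU using key
  exact IsZariskiLocalAtSource.of_iSup_eq_top U
    (top_le_iff.1 fun x _ => TopologicalSpace.Opens.mem_iSup.2 ⟨x, hxU x⟩) hU

end Groth.Agent.UnitUnram
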